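import Groth.Agent.EtMVLib.BigPull
import Groth.Agent.SurfInt.Curve
import Groth.Prelude.Def_Omega2

/-! `Ext` of the conormal sheaf does not depend on the presentation of a closed subscheme. -/

set_option autoImplicit false
set_option linter.style.haveILetI false
set_option backward.isDefEq.respectTransparency false

universe u

open CategoryTheory CategoryTheory.Limits AlgebraicGeometry CategoryTheory.Abelian

namespace Groth.Agent.HilbPt76

theorem subsingleton_ext_of_equivalence {C D : Type (u+1)} [Category.{u} C] [Category.{u} D] [Abelian C]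
    [Abelian D] [HasExt.{u} C] [HasExt.{u} D] [EnoughInjectives C] (e : C ≌ D) [e.functor.Additive]
    {A B : C} {A' B' : D} (eA : e.functor.obj A ≅ A') (eB : e.functor.obj B ≅ B') {n : ℕ}
    (h : Subsingleton (Ext.{u} A' B' n)) : Subsingleton (Ext.{u} A B n) := by
  haveI : e.inverse.Additive := Functor.additive_of_preserves_binary_products _
  haveI := comp_preservesFiniteLimits e.functor e.inverse
  haveI := comp_preservesFiniteColimits e.functor e.inverse
  refine ⟨fun α β => ?_⟩
  have h0 : ∀ α β : Ext.{u} (e.functor.obj A) (e.functor.obj B) n, α = β := fun α β => by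
    have h1 : ((Ext.mk₀ eA.inv).comp α (zero_add n)).comp (Ext.mk₀ eB.hom) (add_zero n) =
        ((Ext.mk₀ eA.inv).comp β (zero_add n)).comp (Ext.mk₀ eB.hom) (add_zero n) := Subsingleton.elim _ _
    have h2 := congrArg (fun t => ((Ext.mk₀ eA.hom).comp t (zero_add n)).comp (Ext.mk₀ eB.inv) (add_zero n)) h1
    simpa [Ext.comp_assoc_of_second_deg_zero, Ext.comp_assoc_of_third_deg_zero, Ext.mk₀_comp_mk₀_assoc,
      Ext.mk₀_comp_mk₀] using h2
  have h1 := congrArg (fun t => Ext.mapExactFunctor e.inverse t)
    (h0 (α.mapExactFunctor e.functor) (β.mapExactFunctor e.functor))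
  rw [← EtMVLib.mapExactFunctor_functorComp, ← EtMVLib.mapExactFunctor_functorComp] at h1
  have h2 := congrArg (fun t => (Ext.mk₀ (e.unitIso.hom.app A)).comp t (zero_add n)) h1
  simp only [← EtMVLib.mapExactFunctor_natTrans (𝟭 C) (e.functor ⋙ e.inverse) e.unitIso.hom,
    EtMVLib.mapExactFunctor_id] at h2
  have h3 := congrArg (fun t => t.comp (Ext.mk₀ (e.unitIso.inv.app B)) (add_zero n)) h2
  simpa [Ext.comp_assoc_of_second_deg_zero, Ext.mk₀_comp_mk₀] using h3

/-- The structure module pulls back to the structure module. -/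
noncomputable def unitIso {X Y : Scheme.{u}} (g : Y ⟶ X) :
    (Scheme.Modules.pullback g).obj (Coh.structureModule X) ≅ Coh.structureModule Y :=
  haveI : IsIso (SheafOfModules.pullbackObjUnitToUnit g.toRingCatSheafHom) := inferInstance
  asIso (SheafOfModules.pullbackObjUnitToUnit g.toRingCatSheafHom)

/-- Inverse image along an isomorphism is an equivalence. -/
noncomputable def pullEquiv {X Y : Scheme.{u}} (e : X ≅ Y) : Y.Modules ≌ X.Modules :=
  CategoryTheory.Equivalence.mk (Scheme.Modules.pullback e.hom) (Scheme.Modules.pullback e.inv)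
    ((Scheme.Modules.pullbackId Y).symm ≪≫ (Scheme.Modules.pullbackCongr e.inv_hom_id).symm ≪≫
      (Scheme.Modules.pullbackComp e.inv e.hom).symm)
    (Scheme.Modules.pullbackComp e.hom e.inv ≪≫ Scheme.Modules.pullbackCongr e.hom_inv_id ≪≫
      Scheme.Modules.pullbackId X)

theorem subsingleton_ext_image {Y X : Scheme.{u}} (i : Y ⟶ X) [IsClosedImmersion i] [HasExt.{u} Y.Modules]
    [HasExt.{u} i.ker.subscheme.Modules] {n : ℕ}
    (h : Subsingleton (Ext.{u} (Omega.conormal i) (Coh.structureModule Y) n)) :
    Subsingleton (Ext.{u} ((Scheme.Modules.pullback i.ker.subschemeι).obj (ClSub.idealMod i.ker))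
      (Coh.structureModule i.ker.subscheme) n) := by
  haveI : EnoughInjectives i.ker.subscheme.Modules := inferInstanceAs (EnoughInjectives (SheafOfModules _))
  let e := SurfInt.kerIso i
  haveI : (pullEquiv e).functor.Additive := Functor.additive_of_preserves_binary_products _
  exact subsingleton_ext_of_equivalence (pullEquiv e)
    ((Scheme.Modules.pullbackComp e.hom i.ker.subschemeι).app _ ≪≫
      (Scheme.Modules.pullbackCongr (SurfInt.kerIso_hom i)).app _) (unitIso e.hom) h

end Groth.Agent.HilbPt76
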