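import Groth.Prelude.Def_ArtFun6
import Groth.Prelude.Def_FGA
import Groth.Agent.ArtFunLib.Basic
import Groth.Agent.AssLib.FlatField

/-! The local Hilbert functor as the local functor of the Hilbert scheme at a point. -/

set_option autoImplicit false
set_option linter.style.haveILetI false
set_option backward.isDefEq.respectTransparency false

universe u

open CategoryTheory CategoryTheory.Limits AlgebraicGeometry ArtFun ArtFun.Art

namespace Groth.Agent.HilbPt76

theorem hilbPull_eq_comap {X S : Scheme.{u}} (f : X ⟶ S) {T T' : Over S} (g : T' ⟶ T)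
    (I : (PicF.XT f T).IdealSheafData) : FGA.hilbPull f g I = I.comap (PicF.XTmap f g) := by
  show (pullback.snd I.subschemeι (PicF.XTmap f g)).ker = (pullback.fst (PicF.XTmap f g) I.subschemeι).ker
  rw [← pullbackSymmetry_hom_comp_fst, Scheme.Hom.ker_comp_of_isIso]

theorem XTmap_comp {X S : Scheme.{u}} (f : X ⟶ S) {T T' T'' : Over S} (g : T' ⟶ T) (g' : T'' ⟶ T') :
    PicF.XTmap f (g' ≫ g) = PicF.XTmap f g' ≫ PicF.XTmap f g := by
  apply pullback.hom_ext <;> simp [PicF.XTmap]

theorem comap_injective {P Q : Scheme.{u}} (f : P ⟶ Q) [IsIso f] :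
    Function.Injective (fun I : Q.IdealSheafData => I.comap f) := fun I J h => by
  have h' : I.comap f = J.comap f := h
  rw [← I.comap_id, ← J.comap_id, ← IsIso.inv_hom_id f, Scheme.IdealSheafData.comap_comp,
    Scheme.IdealSheafData.comap_comp, h']

variable {k : Type u} [Field k] {Y : Scheme.{u}} (y : Y ⟶ specPt k)

theorem exists_hilb_natural [IsProper y] (H : Over (specPt k)) (Z : FGA.HilbSet y H)
    (hH : FGA.HilbRepresentedBy y H Z) (I₀ : Y.IdealSheafData) (h : Over.mk (𝟙 (specPt k)) ⟶ H)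
    (hh : FGA.hilbPull y h Z.1 = I₀.comap (pullback.fst y (Over.mk (𝟙 (specPt k))).hom)) :
    ∃ e : ∀ A : Art k k, {g : Art.spec A ⟶ H.left //
        g ≫ H.hom = Art.specMap (Art.ofBase A) ∧ Art.specRes A ≫ g = h.left} ≃ (localHilb Y y I₀).obj A,
      ∀ (A B : Art k k) (φ : A ⟶ B) (g) (g'), g'.1 = Art.specMap φ ≫ g.1 →
        e B g' = (localHilb Y y I₀).map φ (e A g) := by
  let pt : Over (specPt k) := Over.mk (𝟙 (specPt k))
  haveI : IsIso (pullback.fst y pt.hom) := inferInstanceAs (IsIso (pullback.fst y (𝟙 _)))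
  have hTm : ∀ (A : Art k k) (q : pt ⟶ Over.mk (specOver A)), q.left = specRes A →
      PicF.XTmap y q = pullback.fst y pt.hom ≫ XAincl y A := fun A q hq => by
    apply pullback.hom_ext
    · erw [Category.assoc, XAincl_fst, Category.comp_id]
      exact (pullback.lift_fst _ _ _).trans (Category.comp_id _)
    · erw [Category.assoc, XAincl_snd, pullback.condition_assoc]
      refine (pullback.lift_snd _ _ _).trans ?_
      rw [hq]
      show pullback.snd y pt.hom ≫ _ = _
      exact (congrArg (pullback.snd y pt.hom ≫ ·) (Category.id_comp (specRes A))).symm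
  let ovr : ∀ (A : Art k k) (g : Art.spec A ⟶ H.left), g ≫ H.hom = specOver A → (Over.mk (specOver A) ⟶ H) :=
    fun A g hg => Over.homMk g hg
  have hres : ∀ A : Art k k, specRes A ≫ specOver A = 𝟙 (specPt k) := fun A => by
    show specRes A ≫ specMap (ofBase A) = _
    rw [specRes_comp]
    exact (Category.id_comp _).symm.trans (comp_specRes_base (𝟙 (specPt k)))
  let q : ∀ A : Art k k, pt ⟶ Over.mk (specOver A) := fun A => Over.homMk (specRes A) (hres A)
  have hF : ∀ (A : Art k k) (g : Art.spec A ⟶ H.left) (hg : g ≫ H.hom = specOver A),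
      (specRes A ≫ g = h.left ↔ (FGA.hilbPull y (ovr A g hg) Z.1).comap (XAincl y A) = I₀) := fun A g hg => by
    have h1 : ((FGA.hilbPull y (ovr A g hg) Z.1).comap (XAincl y A)).comap (pullback.fst y pt.hom) =
        FGA.hilbPull y (q A ≫ ovr A g hg) Z.1 := by
      rw [hilbPull_eq_comap, hilbPull_eq_comap, XTmap_comp, Scheme.IdealSheafData.comap_comp,
        hTm A (q A) rfl, Scheme.IdealSheafData.comap_comp]
    constructor
    · intro hx
      have e : q A ≫ ovr A g hg = h := Over.OverMorphism.ext hx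
      refine comap_injective (pullback.fst y pt.hom) ?_
      show _ = I₀.comap _
      rw [← hh, ← e]
      exact h1
    · intro hx
      rw [hx] at h1
      have hne : IsLocallyNoetherian pt.left := inferInstanceAs (IsLocallyNoetherian (Spec (CommRingCat.of k)))
      haveI := hne
      obtain ⟨g₀, -, huniq⟩ := hH.2 pt ⟨_, show IsProper ((FGA.hilbPull y h Z.1).subschemeι ≫ PicF.XTproj y pt) ∧
          Flat ((FGA.hilbPull y h Z.1).subschemeι ≫ PicF.XTproj y pt) from ⟨by
            haveI : IsProper (PicF.XTproj y pt) := inferInstanceAs (IsProper (pullback.snd y _))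
            infer_instance, Groth.Agent.AssLib.flat_over_field (k := k) _⟩⟩
      have e := (huniq (q A ≫ ovr A g hg) (h1.symm.trans hh.symm)).trans (huniq h rfl).symm
      exact congrArg CommaMorphism.left e
  have hmem : ∀ (A : Art k k) (g : {g : Art.spec A ⟶ H.left //
      g ≫ H.hom = Art.specMap (Art.ofBase A) ∧ Art.specRes A ≫ g = h.left}),
      FlatOver Y y A (FGA.hilbPull y (ovr A g.1 g.2.1) Z.1) ∧
        (FGA.hilbPull y (ovr A g.1 g.2.1) Z.1).comap (XAincl y A) = I₀ := fun A g => by
    refine ⟨?_, (hF A g.1 g.2.1).1 g.2.2⟩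
    have sq : IsPullback (PicF.XTmap y (ovr A g.1 g.2.1)) (XApr y A) (PicF.XTproj y H) g.1 := by
      refine IsPullback.of_right ?_ (pullback.lift_snd _ _ _) (IsPullback.of_hasPullback y H.hom)
      rw [show PicF.XTmap y (ovr A g.1 g.2.1) ≫ pullback.fst y H.hom = pullback.fst y (specOver A) from
        (pullback.lift_fst _ _ _).trans (Category.comp_id _), g.2.1]
      exact IsPullback.of_hasPullback y (specOver A)
    have sq2 : IsPullback (pullback.snd (PicF.XTmap y (ovr A g.1 g.2.1)) Z.1.subschemeι)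
        (pullback.fst (PicF.XTmap y (ovr A g.1 g.2.1)) Z.1.subschemeι ≫ XApr y A)
        (Z.1.subschemeι ≫ PicF.XTproj y H) g.1 :=
      IsPullback.paste_vert (IsPullback.of_hasPullback _ Z.1.subschemeι).flip sq
    have hflat : Flat (pullback.fst (PicF.XTmap y (ovr A g.1 g.2.1)) Z.1.subschemeι ≫ XApr y A) :=
      MorphismProperty.of_isPullback (P := @Flat) sq2 Z.2.2
    show Flat (_ ≫ XApr y A)
    rw [hilbPull_eq_comap, ← Scheme.IdealSheafData.comapIso_hom_fst, Category.assoc]
    exact (MorphismProperty.cancel_left_of_respectsIso @Flat (Z.1.comapIso _).hom _).2 hflat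
  let F : ∀ A : Art k k, {g : Art.spec A ⟶ H.left //
      g ≫ H.hom = Art.specMap (Art.ofBase A) ∧ Art.specRes A ≫ g = h.left} → (localHilb Y y I₀).obj A :=
    fun A g => ⟨FGA.hilbPull y (ovr A g.1 g.2.1) Z.1, hmem A g⟩
  have hbij : ∀ A, Function.Bijective (F A) := fun A => by
    haveI : IsLocallyNoetherian (Over.mk (specOver A)).left :=
      inferInstanceAs (IsLocallyNoetherian (Spec (CommRingCat.of (A : Type u))))
    haveI : IsProper (XApr y A) := inferInstanceAs (IsProper (pullback.snd y _))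
    refine ⟨fun g g' e => ?_, fun I => ?_⟩
    · obtain ⟨g₀, -, huniq⟩ := hH.2 (Over.mk (specOver A)) ⟨_, show IsProper ((F A g).1.subschemeι ≫ XApr y A) ∧
          Flat ((F A g).1.subschemeι ≫ XApr y A) from ⟨inferInstance, (F A g).2.1⟩⟩
      have h1 := (huniq (ovr A g.1 g.2.1) rfl).trans (huniq (ovr A g'.1 g'.2.1) (congrArg Subtype.val e).symm).symm
      exact Subtype.ext (congrArg CommaMorphism.left h1)
    · obtain ⟨g₀, hg₀, -⟩ := hH.2 (Over.mk (specOver A)) ⟨I.1, show IsProper (I.1.subschemeι ≫ XApr y A) ∧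
          Flat (I.1.subschemeι ≫ XApr y A) from ⟨inferInstance, I.2.1⟩⟩
      have hw : g₀.left ≫ H.hom = specOver A := Over.w g₀
      have e0 : ovr A g₀.left hw = g₀ := Over.OverMorphism.ext rfl
      have hx : specRes A ≫ g₀.left = h.left := (hF A g₀.left hw).2 (by rw [e0, hg₀]; exact I.2.2)
      refine ⟨⟨g₀.left, hw, hx⟩, Subtype.ext ?_⟩
      show FGA.hilbPull y (ovr A g₀.left hw) Z.1 = I.1
      rw [e0]
      exact hg₀
  refine ⟨fun A => Equiv.ofBijective _ (hbij A), fun A B φ g g' hgg => Subtype.ext ?_⟩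
  show FGA.hilbPull y (ovr B g'.1 g'.2.1) Z.1 = (FGA.hilbPull y (ovr A g.1 g.2.1) Z.1).comap (XAmap y φ)
  let qφ : Over.mk (specOver B) ⟶ Over.mk (specOver A) := Over.homMk (specMap φ) (specOver_comp φ)
  have e : ovr B g'.1 g'.2.1 = qφ ≫ ovr A g.1 g.2.1 := Over.OverMorphism.ext hgg
  rw [e, hilbPull_eq_comap, hilbPull_eq_comap, XTmap_comp, Scheme.IdealSheafData.comap_comp]
  rfl

end Groth.Agent.HilbPt76
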