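import Groth.Agent.ArtFunLib.Completion

/-! The completion at an augmentation, with the comparison with the adic completion. -/

set_option autoImplicit false

universe u v

open CategoryTheory ArtFun IsLocalRing

namespace Groth.Agent.HilbPt76

open Groth.Agent.ArtFunLib Groth.Agent.ArtFunLib.Completion

variable {Λ : Type u} {k : Type u} [CommRing Λ] [Field k] [Algebra Λ k]

/-- The completion of a Noetherian augmented algebra at its augmentation, with its universal property. -/
theorem exists_completion_equiv {S : Type u} [CommRing S] [Algebra Λ S] [IsNoetherianRing S]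
    (res : S →ₐ[Λ] k) (hres : Function.Surjective res) :
    ∃ (R : CRing Λ k) (ι : S →ₐ[Λ] R.carrier), R.res.comp ι = res ∧
      (∀ n (x : R.carrier), ∃ s : S, x - ι s ∈ maximalIdeal R.carrier ^ n) ∧
      (∀ n (s : S), ι s ∈ maximalIdeal R.carrier ^ n → s ∈ RingHom.ker res ^ n) ∧
      (∀ (T : CRing Λ k) (g : S →ₐ[Λ] T.carrier), T.res.comp g = res →
        ∃ h : R.carrier →ₐ[Λ] T.carrier, T.res.comp h = R.res ∧ h.comp ι = g) ∧
      (∀ (T : CRing Λ k) (h₁ h₂ : R.carrier →ₐ[Λ] T.carrier),
        T.res.comp h₁ = R.res → T.res.comp h₂ = R.res → h₁.comp ι = h₂.comp ι → h₁ = h₂) ∧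
      Nonempty (R.carrier ≃+* AdicCompletion (RingHom.ker res) S) := by
  set M := RingHom.ker res
  have hMmax : M.IsMaximal := Hull.ker_isMaximal res hres
  have hfg : M.FG := IsNoetherian.noetherian M
  let B := AdicCompletion M S
  let m : Ideal B := M.map (algebraMap S B)
  have hm : m.IsMaximal := AdicCompletion.isMaximal_map_of_le M M le_rfl hfg
  have hc : IsAdicComplete m B := AdicCompletion.isAdicComplete_self M hfg
  have : IsLocalRing B := isLocalRing_of_isAdicComplete_maximal m
  have hN : IsNoetherianRing B := by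
    let := Ideal.Quotient.field m
    exact LocalCrit.isNoetherianRing_of_isAdicComplete m (hfg.map _)
  have hmB : m = maximalIdeal B := IsLocalRing.eq_maximalIdeal hm
  let resB : B →ₐ[Λ] k :=
    (Ideal.Quotient.liftₐ (M ^ 1) res fun a ha => RingHom.mem_ker.1 (Ideal.pow_le_self one_ne_zero ha)).comp
      ((AdicCompletion.evalₐ M 1).restrictScalars Λ)
  have hresB : ∀ s, resB (algebraMap S B s) = res s := fun s => by
    show Ideal.Quotient.liftₐ (M ^ 1) res (fun a ha => RingHom.mem_ker.1 (Ideal.pow_le_self one_ne_zero ha)) (AdicCompletion.evalₐ M 1 (algebraMap S B s)) = res s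
    rw [AlgHom.commutes]
    rfl
  let R : CRing Λ k :=
    { carrier := B
      res := resB
      res_surjective := fun c => (hres c).elim fun s hs => ⟨algebraMap S B s, (hresB s).trans hs⟩
      isAdicComplete := hmB ▸ hc }
  let ι : S →ₐ[Λ] R.carrier := IsScalarTower.toAlgHom Λ S B
  refine ⟨R, ι, AlgHom.ext hresB, fun n x => ?_, fun n s hs => ?_, fun T g hg => ?_, fun T h₁ h₂ e₁ e₂ e => ?_, ⟨RingEquiv.refl _⟩⟩
  · obtain ⟨s, hs⟩ := Hull.exists_approx M hfg n x
    exact ⟨s, hmB ▸ hs⟩
  · have h1 : algebraMap S B s ∈ m ^ n := hmB.symm ▸ hs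
    have h2 := (Hull.mem_map_pow_iff M hfg n _).1 h1
    rw [AlgHom.commutes, Ideal.Quotient.algebraMap_eq] at h2
    exact Ideal.Quotient.eq_zero_iff_mem.1 h2
  · haveI := T.isAdicComplete
    have hgM : ∀ n, M ^ n ≤ (maximalIdeal T.carrier ^ n).comap g.toRingHom := fun n => by
      rw [← Ideal.map_le_iff_le_comap, Ideal.map_pow]
      refine Ideal.pow_right_mono (Ideal.map_le_iff_le_comap.2 fun s hs => ?_) _
      rw [Ideal.mem_comap, CRing.mem_maximalIdeal_iff]
      exact (congr($hg s)).trans (RingHom.mem_ker.1 hs)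
    let f : ∀ n, B →ₐ[Λ] T.carrier ⧸ maximalIdeal T.carrier ^ n := fun n =>
      (Ideal.Quotient.liftₐ (M ^ n) ((Ideal.Quotient.mkₐ Λ _).comp g) fun a ha =>
        Ideal.Quotient.eq_zero_iff_mem.2 (hgM n ha)).comp ((AdicCompletion.evalₐ M n).restrictScalars Λ)
    have hfeq : ∀ n x s, x - algebraMap S B s ∈ m ^ n → f n x = Ideal.Quotient.mk _ (g s) := by
      intro n x s hs
      have e : AdicCompletion.evalₐ M n x = Ideal.Quotient.mk _ s := by
        have := (Hull.mem_map_pow_iff M hfg n _).1 hs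
        rwa [map_sub, AlgHom.commutes, Ideal.Quotient.algebraMap_eq, sub_eq_zero] at this
      show Ideal.Quotient.liftₐ (M ^ n) ((Ideal.Quotient.mkₐ Λ _).comp g) (fun a ha =>
        Ideal.Quotient.eq_zero_iff_mem.2 (hgM n ha)) (AdicCompletion.evalₐ M n x) = _
      rw [e]
      rfl
    have hf : ∀ {p q : ℕ} (h : p ≤ q),
        (Ideal.Quotient.factorₐ Λ (Ideal.pow_le_pow_right h)).comp (f q) = f p := fun {p q} h => by
      refine AlgHom.ext fun x => ?_
      obtain ⟨s, hs⟩ := Hull.exists_approx M hfg q x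
      rw [AlgHom.comp_apply, hfeq q x s hs, hfeq p x s (Ideal.pow_le_pow_right h hs)]
      rfl
    let h : B →ₐ[Λ] T.carrier := IsAdicComplete.liftAlgHom (maximalIdeal T.carrier) f hf
    have hι : ∀ s, h (algebraMap S B s) = g s := fun s => by
      refine eq_of_sub_eq_zero (IsHausdorff.haus (I := maximalIdeal T.carrier) inferInstance _ fun n => ?_)
      rw [SModEq.sub_mem, sub_zero, Ideal.smul_eq_mul, Ideal.mul_top, ← Ideal.Quotient.eq,
        show Ideal.Quotient.mk (maximalIdeal T.carrier ^ n) (h (algebraMap S B s)) = f n (algebraMap S B s) from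
          IsAdicComplete.mk_liftAlgHom _ f hf n _]
      exact hfeq n _ s (by rw [sub_self]; exact zero_mem _)
    refine ⟨h, AlgHom.ext fun x => ?_, AlgHom.ext hι⟩
    obtain ⟨s, hs⟩ := Hull.exists_approx M hfg 1 x
    have h1 : h x - g s ∈ maximalIdeal T.carrier := by
      rw [← pow_one (maximalIdeal T.carrier), ← Ideal.Quotient.eq]
      exact (IsAdicComplete.mk_liftAlgHom _ f hf 1 x).trans (hfeq 1 x s hs)
    have h2 : x - algebraMap S B s ∈ maximalIdeal R.carrier := hmB ▸ (pow_one m ▸ hs)
    rw [CRing.mem_maximalIdeal_iff, map_sub, sub_eq_zero] at h1 h2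
    show T.res (h x) = R.res x
    rw [h1, h2]
    exact (congr($hg s)).trans (hresB s).symm
  · haveI := T.isAdicComplete
    refine AlgHom.ext fun x => eq_of_sub_eq_zero
      (IsHausdorff.haus (I := maximalIdeal T.carrier) inferInstance _ fun n => ?_)
    rw [SModEq.sub_mem, sub_zero, Ideal.smul_eq_mul, Ideal.mul_top]
    obtain ⟨s, hs⟩ := Hull.exists_approx M hfg n x
    have key : ∀ (h : R.carrier →ₐ[Λ] T.carrier), T.res.comp h = R.res →
        h x - h (ι s) ∈ maximalIdeal T.carrier ^ n := fun h hh => by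
      rw [← map_sub]
      have h3 : x - ι s ∈ maximalIdeal R.carrier ^ n := hmB ▸ hs
      have := Ideal.mem_map_of_mem h.toRingHom h3
      rw [Ideal.map_pow] at this
      exact Ideal.pow_right_mono (map_maximalIdeal_le h hh) n this
    have := sub_mem (key h₁ e₁) (key h₂ e₂)
    rwa [show h₁ (ι s) = h₂ (ι s) from congr($e s), sub_sub_sub_cancel_right] at this

end Groth.Agent.HilbPt76
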