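import Groth.Agent.ArtFunLib.Tangent
import Groth.Agent.ArtFunLib.Smooth
import Mathlib.RingTheory.Ideal.Cotangent
import Mathlib.LinearAlgebra.Dimension.Free
import Mathlib.LinearAlgebra.Dual.Lemmas

/-! The tangent space of `h_R` is dual to the cotangent space of `R`. -/

set_option autoImplicit false
set_option backward.isDefEq.respectTransparency false
set_option linter.style.haveILetI false

universe u

open CategoryTheory ArtFun ArtFun.Art IsLocalRing

namespace Groth.Agent.HilbPt76

open Groth.Agent.ArtFunLib

variable {k : Type u} [Field k] {R : Type u} [CommRing R] [IsLocalRing R] [IsNoetherianRing R] [Algebra k R]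
  (res : R →ₐ[k] k)

omit [IsNoetherianRing R] in
theorem finrank_tangent [T : TangentStr (hR R res)] :
    Module.finrank k (TangentSpace (hR R res)) = Module.finrank (ResidueField R) (CotangentSpace R) := by
  have hres : Function.Surjective res := fun c => ⟨algebraMap k R c, res.commutes c⟩
  have hker : RingHom.ker res = maximalIdeal R := eq_maximalIdeal (RingHom.ker_isMaximal_of_surjective res hres)
  let m := maximalIdeal R
  have hmem : ∀ r, r - algebraMap k R (res r) ∈ m := fun r => by
    show r - algebraMap k R (res r) ∈ maximalIdeal R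
    rw [← hker, RingHom.mem_ker, map_sub, res.commutes, Algebra.algebraMap_self, RingHom.id_apply, sub_self]
  have hfst : ∀ (φ : HomSet R res (dual k k)) r, TrivSqZeroExt.fst (φ.1 r) = res r := fun φ r =>
    DFunLike.congr_fun φ.2 r
  have hr0 : ∀ x : m, res x = 0 := fun x => RingHom.mem_ker.1 (hker.ge x.2)
  have hsnd : ∀ (φ : HomSet R res (dual k k)) (r : R) (x : m),
      TrivSqZeroExt.snd (φ.1 (r * x)) = res r • TrivSqZeroExt.snd (φ.1 (x : R)) := fun φ r x => by
    rw [map_mul]
    refine (TrivSqZeroExt.snd_mul (R := k) (M := k) _ _).trans ?_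
    rw [hfst, hfst, hr0, MulOpposite.op_zero, zero_smul, add_zero]
  let D : HomSet R res (dual k k) → Module.Dual k m.Cotangent := fun φ =>
    { toFun := fun c => Quotient.liftOn' c (fun x : m => TrivSqZeroExt.snd (φ.1 (x : R))) fun x y h => by
        have h1 : (x : R) - y ∈ m ^ 2 := (Ideal.toCotangent_eq _).1 (Quotient.sound' h)
        have h2 : ∀ z ∈ m ^ 2, TrivSqZeroExt.snd (φ.1 z) = 0 := fun z hz => by
          rw [sq] at hz
          refine Submodule.mul_induction_on hz (fun a ha b hb => ?_) fun a b ha hb => ?_
          · rw [hsnd φ a ⟨b, hb⟩, hr0 ⟨a, ha⟩, zero_smul]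
          · rw [map_add]
            exact (TrivSqZeroExt.snd_add _ _).trans (by rw [ha, hb, add_zero])
        have h3 := h2 _ h1
        rw [map_sub] at h3
        exact sub_eq_zero.1 ((TrivSqZeroExt.snd_sub _ _).symm.trans h3)
      map_add' := fun c d => by
        obtain ⟨x, rfl⟩ := m.toCotangent_surjective c
        obtain ⟨y, rfl⟩ := m.toCotangent_surjective d
        show TrivSqZeroExt.snd (φ.1 ((x : R) + y)) = _
        rw [map_add]
        exact TrivSqZeroExt.snd_add _ _
      map_smul' := fun a c => by
        obtain ⟨x, rfl⟩ := m.toCotangent_surjective c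
        show TrivSqZeroExt.snd (φ.1 ((a • x : m) : R)) = a • TrivSqZeroExt.snd (φ.1 (x : R))
        rw [show ((a • x : m) : R) = algebraMap k R a * x from Algebra.smul_def a (x : R), hsnd, res.commutes]
        rfl }
  have hD : ∀ φ (x : m), D φ (m.toCotangent x) = TrivSqZeroExt.snd (φ.1 (x : R)) := fun φ x => rfl
  let L : TangentSpace (hR R res) →ₗ[k] Module.Dual k m.Cotangent :=
  { toFun := fun v => D (TangentSpace.val v)
    map_add' := fun v w => by
      obtain ⟨z, h₁, h₂⟩ := exists_pair (ArtFunLib.hR_h0 R res) (ArtFunLib.hR_heps R res)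
        (TangentSpace.val v) (TangentSpace.val w)
      have hadd : v + w = TangentSpace.mk ((hR R res).map plus z) := by
        rw [← tangent_add_eq, h₁, h₂]; rfl
      rw [hadd, ← h₁, ← h₂]
      refine LinearMap.ext fun c => ?_
      obtain ⟨x, rfl⟩ := m.toCotangent_surjective c
      rfl
    map_smul' := fun a v => by
      have hsm : a • v = TangentSpace.mk ((hR R res).map (scale a) (TangentSpace.val v)) := by
        rw [← tangent_smul_eq]; rfl
      rw [hsm]
      refine LinearMap.ext fun c => ?_
      obtain ⟨x, rfl⟩ := m.toCotangent_surjective c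
      rfl }
  have hL : Function.Bijective L := by
    refine ⟨fun v w h => ?_, fun l => ?_⟩
    · refine Subtype.ext (AlgHom.ext fun r => ?_)
      refine TrivSqZeroExt.ext ((hfst _ r).trans (hfst _ r).symm) ?_
      have h1 := LinearMap.congr_fun h (m.toCotangent ⟨_, hmem r⟩)
      change D (TangentSpace.val v) _ = D (TangentSpace.val w) _ at h1
      erw [hD, hD, map_sub, map_sub, AlgHom.commutes, AlgHom.commutes] at h1
      exact sub_left_inj.1 ((TrivSqZeroExt.snd_sub _ _).symm.trans (h1.trans (TrivSqZeroExt.snd_sub _ _)))
    · let g : R → k := fun r => l (m.toCotangent ⟨_, hmem r⟩)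
      have hg_add : ∀ r s, g (r + s) = g r + g s := fun r s => by
        show l _ = l _ + l _
        rw [← map_add l, ← map_add m.toCotangent]
        exact congrArg (fun z => l (m.toCotangent z)) (Subtype.ext (by simp; ring))
      have hg_mul : ∀ r s, g (r * s) = res r * g s + g r * res s := fun r s => by
        show l _ = res r • l _ + _ * res s
        rw [mul_comm (g r) (res s)]
        show l _ = res r • l _ + res s • l _
        rw [← map_smul l, ← map_smul l, ← map_add l]
        refine congrArg l ?_
        have e1 : ∀ (a : k) (x : m), a • m.toCotangent x = m.toCotangent (algebraMap k R a • x) := fun a x => by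
          rw [map_smul, ← IsScalarTower.algebraMap_smul R a]
        rw [e1, e1, ← map_add, Ideal.toCotangent_eq, sq]
        have := Ideal.mul_mem_mul (hmem r) (hmem s)
        refine (congrArg (· ∈ m * m) ?_).mp this
        simp only [Submodule.coe_add, SetLike.val_smul, smul_eq_mul, map_mul]
        ring
      have hg0 : ∀ a : k, g (algebraMap k R a) = 0 := fun a => by
        show l _ = 0
        rw [show (⟨_, hmem (algebraMap k R a)⟩ : m) = 0 from Subtype.ext (by simp), map_zero, map_zero]
      let f : R →ₐ[k] DualNumber k :=
        { toFun := fun r => TrivSqZeroExt.inl (res r) + TrivSqZeroExt.inr (g r)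
          map_one' := by
            have h1 := hg0 1
            rw [map_one] at h1
            refine TrivSqZeroExt.ext ?_ ?_ <;> simp [h1]
          map_mul' := fun r s => by
            refine TrivSqZeroExt.ext ?_ ?_
            · simp
            · simp [hg_mul, mul_comm]
          map_zero' := by
            have h1 := hg0 0
            rw [map_zero] at h1
            simp [h1]
          map_add' := fun r s => by
            refine TrivSqZeroExt.ext ?_ ?_ <;> simp [hg_add]
          commutes' := fun a => by
            simp [hg0, TrivSqZeroExt.algebraMap_eq_inl] }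
      refine ⟨TangentSpace.mk (F := hR R res) (⟨f, AlgHom.ext fun r => ?_⟩ : HomSet R res (dual k k)), ?_⟩
      · show TrivSqZeroExt.fst (f r) = res r
        simp [f]
      · refine LinearMap.ext fun c => ?_
        obtain ⟨x, rfl⟩ := m.toCotangent_surjective c
        show TrivSqZeroExt.snd (f (x : R)) = l (m.toCotangent x)
        have e : (⟨_, hmem (x : R)⟩ : m) = x := Subtype.ext (by simp [hr0 x])
        simp [f, g, e]
  have hbij : Function.Bijective (algebraMap k (ResidueField R)) := by
    refine ⟨RingHom.injective _, fun z => ?_⟩
    obtain ⟨r, rfl⟩ := residue_surjective z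
    exact ⟨res r, (Ideal.Quotient.eq.2 (hmem r)).symm⟩
  have h1 : Module.finrank k (ResidueField R) = 1 := by
    rw [← (LinearEquiv.ofBijective (Algebra.linearMap k (ResidueField R)) hbij).finrank_eq, Module.finrank_self]
  rw [(LinearEquiv.ofBijective L hL).finrank_eq, Subspace.dual_finrank_eq]
  show Module.finrank k (CotangentSpace R) = _
  haveI : IsScalarTower k (ResidueField R) (CotangentSpace R) := IsScalarTower.of_algebraMap_smul fun a x => by
    rw [IsScalarTower.algebraMap_apply k R (ResidueField R), IsScalarTower.algebraMap_smul, IsScalarTower.algebraMap_smul]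
  rw [← Module.finrank_mul_finrank k (ResidueField R) (CotangentSpace R), h1, one_mul]

end Groth.Agent.HilbPt76
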