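import Groth.Agent.HilbFin76.Hom
import Groth.Agent.SurfInt.Curve
import Groth.Prelude.Def_Omega2

/-! `Hom(I, O_X)` is the space of global sections of the normal sheaf. -/

set_option autoImplicit false
set_option linter.style.haveILetI false
set_option backward.isDefEq.respectTransparency false

universe u

open CategoryTheory CategoryTheory.Limits AlgebraicGeometry

namespace Groth.Agent.HilbPt76

variable {k : Type u} [Field k] {X Y : Scheme.{u}} [X.Over (Spec (CommRingCat.of k))]
  [Y.Over (Spec (CommRingCat.of k))]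

theorem finrank_hom_eq (i : X ⟶ Y) [IsClosedImmersion i]
    (hi : i ≫ (Y ↘ Spec (CommRingCat.of k)) = X ↘ Spec (CommRingCat.of k)) [DCoh.HasSheafHom (Omega.conormal i)] :
    Module.finrank k (ClSub.idealMod i.ker ⟶ ClSub.quotMod i.ker) =
      Module.finrank k (Coh.HH X ((DCoh.sheafHom (Omega.conormal i)).obj (Coh.structureModule X)) 0) := by
  let M := Omega.conormal i
  let N := Coh.structureModule X
  obtain ⟨e0⟩ := SurfInt.nonempty_quotMod_ker i
  let e1 := Linear.homCongr k (Iso.refl (ClSub.idealMod i.ker)) e0
  let adj := Scheme.Modules.pullbackPushforwardAdjunction i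
  let g : (M ⟶ N) →ₗ[k] (ClSub.idealMod i.ker ⟶ (Scheme.Modules.pushforward i).obj N) :=
  { toFun := adj.homEquiv _ _
    map_add' := fun a b => by
      simp only [Adjunction.homEquiv_unit, Functor.map_add, Preadditive.comp_add]
    map_smul' := fun a z => by
      rw [RingHom.id_apply, KLin.smul_def, KLin.smul_def,
        show Formal.smulMod k M a ≫ z = z ≫ Formal.smulMod k (Coh.structureModule X) a from
          (KLin.comp_smulModΓ _ _).symm,
        Adjunction.homEquiv_naturality_right,
        Algz7.pushforward_smulMod i hi]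
      exact KLin.comp_smulModΓ _ _ }
  let e2 := LinearEquiv.ofBijective g (adj.homEquiv _ _).bijective
  let ev : (Coh.structureModule X ⟶ (SheafHomX.hom M).obj N) →ₗ[k] (M ⟶ N) :=
  { SheafHomX.ev M N with
    map_smul' := fun a z => by
      show SheafHomX.ev M N (a • z) = a • SheafHomX.ev M N z
      rw [KLin.smul_def, KLin.smul_def, show Formal.smulMod k (Coh.structureModule X) a ≫ z =
        z ≫ Formal.smulMod k ((SheafHomX.hom M).obj N) a from (KLin.comp_smulModΓ _ _).symm,
        ← PnDual.hom_map_smulMod, SheafHomX.ev_naturality]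
      exact KLin.comp_smulModΓ _ _ }
  let e3 := LinearEquiv.ofBijective ev (SheafHomX.ev M N).bijective
  let e4 := Linear.homCongr k (Iso.refl (Coh.structureModule X)) ((AmpleVan.sheafHomIso M).app N).symm
  let e5 := LinearEquiv.ofBijective _ (RegEpi.evalOneLin_bijective k ((DCoh.sheafHom M).obj N))
  exact (e1 ≪≫ₗ e2.symm ≪≫ₗ e3.symm ≪≫ₗ e4 ≪≫ₗ e5).finrank_eq

end Groth.Agent.HilbPt76
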