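import Groth.Agent.HilbPt76.Completion
import Groth.Agent.ArtFunLib.LocalFunctor
import Mathlib.AlgebraicGeometry.Stalk

/-! The local functor of a locally Noetherian scheme at a rational point, through the local ring. -/

set_option autoImplicit false
set_option linter.style.haveILetI false
set_option backward.isDefEq.respectTransparency false

universe u

open CategoryTheory AlgebraicGeometry ArtFun

namespace Groth.Agent.HilbPt76

open Groth.Agent.ArtFunLib Groth.Agent.ArtFunLib.LocalFunctor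

variable {k : Type u} [Field k]

theorem exists_stalk_functor (M : Scheme.{u}) (m : M ⟶ Spec (CommRingCat.of k))
    (x₀ : Spec (CommRingCat.of k) ⟶ M) (hx₀ : x₀ ≫ m = 𝟙 _) (pt : ↥(Spec (CommRingCat.of k))) :
    ∃ (_ : Algebra k (M.presheaf.stalk (x₀ pt))) (res : M.presheaf.stalk (x₀ pt) →ₐ[k] k)
      (_ : Function.Surjective res)
      (e : ∀ A : Art k k, HomSet (M.presheaf.stalk (x₀ pt)) res A ≃
        {g : Art.spec A ⟶ M // g ≫ m = Art.specMap (Art.ofBase A) ∧ Art.specRes A ≫ g = x₀}),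
      ∀ (A B : Art k k) (h : A ⟶ B) (φ : HomSet (M.presheaf.stalk (x₀ pt)) res A),
        ((e B) (HomSet.map h φ)).1 = Art.specMap h ≫ ((e A) φ).1 := by
  let O : CommRingCat.{u} := M.presheaf.stalk (x₀ pt)
  let j : Spec O ⟶ M := M.fromSpecStalk (x₀ pt)
  let ψ : CommRingCat.of k ⟶ O := Spec.preimage (j ≫ m)
  have hψ : Spec.map ψ = j ≫ m := Spec.map_preimage _
  letI : Algebra k O := ψ.hom.toAlgebra
  have hfac : ∀ {R : Type u} [CommRing R] [IsLocalRing R] (f : Spec (CommRingCat.of R) ⟶ M),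
      f (IsLocalRing.closedPoint R) = x₀ pt → ∃ l : Spec (CommRingCat.of R) ⟶ Spec O, l ≫ j = f := fun {R} _ _ f h => by
    have e := Scheme.Spec_stalkClosedPointTo_fromSpecStalk f
    refine ⟨Spec.map (Scheme.stalkClosedPointTo f) ≫ Spec.map (eqToHom (congrArg M.presheaf.stalk h.symm)), ?_⟩
    refine Eq.trans ?_ e
    rw [Category.assoc]
    congr 1
    have key : ∀ (z w : M) (hzw : z = w) (hh : M.presheaf.stalk w = M.presheaf.stalk z),
        Spec.map (eqToHom hh) ≫ M.fromSpecStalk w = M.fromSpecStalk z := by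
      rintro z w rfl hh
      rw [eqToHom_refl, Spec.map_id, Category.id_comp]
    exact key _ _ h _
  obtain ⟨l, hl⟩ := hfac (R := k) x₀ (congrArg _ (Subsingleton.elim (α := PrimeSpectrum k) _ _))
  let r : O ⟶ CommRingCat.of k := Spec.preimage l
  have hr : Spec.map r = l := Spec.map_preimage _
  have hψr : ψ ≫ r = 𝟙 _ := Spec.map_injective (by
    rw [Spec.map_comp, hr, hψ, ← Category.assoc, hl, hx₀, Spec.map_id])
  let res : O →ₐ[k] k := { r.hom with commutes' := fun c => congr($hψr c) }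
  have hres : Function.Surjective res := fun c => ⟨ψ c, congr($hψr c)⟩
  let mk : ∀ (A : Art k k), HomSet O res A → (Art.spec A ⟶ M) := fun A φ =>
    Spec.map (CommRingCat.ofHom (R := O) (S := (A : Type u)) φ.1.toRingHom) ≫ j
  have hmk : ∀ (A : Art k k) (φ : HomSet O res A),
      mk A φ ≫ m = Art.specMap (Art.ofBase A) ∧ Art.specRes A ≫ mk A φ = x₀ := fun A φ => by
    constructor
    · show (Spec.map _ ≫ j) ≫ m = _
      rw [Category.assoc, ← hψ, ← Spec.map_comp]
      refine congrArg Spec.map (CommRingCat.hom_ext (RingHom.ext fun c => ?_))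
      exact φ.1.commutes c
    · show Spec.map _ ≫ Spec.map _ ≫ j = x₀
      rw [← Spec.map_comp_assoc, ← hl, ← hr]
      congr 2
      refine CommRingCat.hom_ext (RingHom.ext fun x => ?_)
      exact congr($(φ.2) x)
  have hbij : ∀ A : Art k k, Function.Bijective (fun φ : HomSet O res A =>
      (⟨mk A φ, hmk A φ⟩ : {g : Art.spec A ⟶ M // g ≫ m = Art.specMap (Art.ofBase A) ∧ Art.specRes A ≫ g = x₀})) := by
    intro A
    refine ⟨fun φ₁ φ₂ h => ?_, fun ⟨g, hg₁, hg₂⟩ => ?_⟩
    · have h1 : mk A φ₁ = mk A φ₂ := congrArg Subtype.val h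
      have h2 := Spec.map_injective ((cancel_mono j).1 h1)
      exact Subtype.ext (AlgHom.ext fun x => congr($h2 x))
    · haveI := subsingleton_spec A
      obtain ⟨gl, hgl⟩ := hfac (R := (A : Type u)) g (by
        refine Eq.trans ?_ (congr($hg₂ pt))
        exact congrArg _ (Subsingleton.elim _ _))
      let f : O ⟶ CommRingCat.of (A : Type u) := Spec.preimage gl
      have hf : Spec.map f = gl := Spec.map_preimage _
      have hψf : ψ ≫ f = CommRingCat.ofHom (Art.ofBase A).toAlgHom.toRingHom := Spec.map_injective (by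
        rw [Spec.map_comp, hf, hψ, ← Category.assoc, hgl, hg₁])
      have hfr : f ≫ CommRingCat.ofHom A.res.toRingHom = r := Spec.map_injective (by
        rw [Spec.map_comp, hf, hr]
        refine (cancel_mono j).1 ?_
        rw [Category.assoc, hgl, hl]
        exact hg₂)
      let fA : O →ₐ[k] A := { f.hom with commutes' := fun c => congr($hψf c) }
      refine ⟨⟨fA, AlgHom.ext fun x => congr($hfr x)⟩, Subtype.ext ?_⟩
      show Spec.map _ ≫ j = g
      rw [← hgl, ← hf]
      rfl
  refine ⟨inferInstance, res, hres, fun A => Equiv.ofBijective _ (hbij A), fun A B h φ => ?_⟩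
  show Spec.map _ ≫ j = Art.specMap h ≫ Spec.map _ ≫ j
  rw [← Spec.map_comp_assoc]
  rfl

theorem exists_local_functor (M : Scheme.{u}) (m : M ⟶ Spec (CommRingCat.of k)) [IsLocallyNoetherian M]
    (x₀ : Spec (CommRingCat.of k) ⟶ M) (hx₀ : x₀ ≫ m = 𝟙 _) :
    ∃ (R : CRing k k)
      (_ : ∀ pt : ↥(Spec (CommRingCat.of k)), Nonempty (R.carrier ≃+*
        AdicCompletion (IsLocalRing.maximalIdeal (M.presheaf.stalk (x₀ pt))) (M.presheaf.stalk (x₀ pt))))
      (e : ∀ A : Art k k, HomSet R.carrier R.res A ≃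
        {g : Art.spec A ⟶ M // g ≫ m = Art.specMap (Art.ofBase A) ∧ Art.specRes A ≫ g = x₀}),
      ∀ (A B : Art k k) (h : A ⟶ B) (φ : HomSet R.carrier R.res A),
        ((e B) (HomSet.map h φ)).1 = Art.specMap h ≫ ((e A) φ).1 := by
  let pt : ↥(Spec (CommRingCat.of k)) := (⊥ : PrimeSpectrum k)
  let O : CommRingCat.{u} := M.presheaf.stalk (x₀ pt)
  obtain ⟨iA, res, hres, e, he⟩ := exists_stalk_functor M m x₀ hx₀ pt
  obtain ⟨R, ι, hι, -, -, hex, hu, ⟨eR⟩⟩ := exists_completion_equiv res hres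
  let tr : ∀ A : Art k k, HomSet R.carrier R.res A → HomSet O res A := fun A φ =>
    ⟨φ.1.comp ι, AlgHom.ext fun x => (congr($(φ.2) (ι x))).trans (congr($hι x))⟩
  have htr : ∀ A, Function.Bijective (tr A) := fun A => by
    refine ⟨fun φ₁ φ₂ h => Subtype.ext (hu (toCRing A) φ₁.1 φ₂.1 φ₁.2 φ₂.2 (congrArg Subtype.val h)),
      fun ψ => ?_⟩
    obtain ⟨h, hh, hh'⟩ := hex (toCRing A) ψ.1 ψ.2
    exact ⟨⟨h, hh⟩, Subtype.ext hh'⟩
  have hker : RingHom.ker res = IsLocalRing.maximalIdeal O :=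
    IsLocalRing.eq_maximalIdeal (RingHom.ker_isMaximal_of_surjective res hres)
  rw [hker] at eR
  refine ⟨R, fun q => by rw [Subsingleton.elim (α := PrimeSpectrum k) q pt]; exact ⟨eR⟩,
    fun A => (Equiv.ofBijective _ (htr A)).trans (e A), fun A B h φ => ?_⟩
  exact (congrArg (fun t => ((e B) t).1) (Subtype.ext (AlgHom.ext fun x => rfl))).trans (he A B h (tr A φ))

end Groth.Agent.HilbPt76
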