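import Groth.Agent.ArtFunLib.HilbIdeal
import Groth.Agent.HilbFin76.Tangent

/-! Every morphism `I₀ → O_Y` comes from a first-order deformation. -/

set_option autoImplicit false
set_option linter.style.haveILetI false
set_option backward.isDefEq.respectTransparency false

universe u

open CategoryTheory CategoryTheory.Limits AlgebraicGeometry ArtFun ArtFun.Art Opposite

namespace Groth.Agent.HilbPt76

open Groth.Agent.ArtFunLib Groth.Agent.ArtFunLib.HilbAffine Groth.Agent.ArtFunLib.HilbSit
  Groth.Agent.ArtFunLib.HilbFib Groth.Agent.ArtFunLib.HilbMod Groth.Agent.ArtFunLib.HilbIdeal Groth.Agent.HilbFin76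

variable {k : Type u} [Field k] {X : Scheme.{u}} (x : X ⟶ specPt k) (I₀ : X.IdealSheafData)

theorem eps_mul_fst_eq_zero (U : X.affineOpens) (z : Γ(X, U.1))
    (h : c x (dual k k) U (DualNumber.eps : DualNumber k) * fstPull x (dual k k) U z = 0) : z = 0 := by
  have hflat : ((Ideal.Quotient.mk (⊥ : Ideal Γ(XA x (dual k k), (W x (dual k k) U).1))).comp
      (c x (dual k k) U)).Flat :=
    (flat_c x (dual k k) U).comp (RingHom.Flat.of_bijective
      (RingEquiv.quotientBot _).symm.bijective)
  have h2 := HilbRing.mem_of_smul_mem (c x (dual k k) U) hflat _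
    (IsLocalRing.maximalIdeal (dual k k)) (fun b hb => by
      by_contra hnb
      exact eps_ne ((IsLocalRing.notMem_maximalIdeal.1 hnb).mul_left_eq_zero.mp hb))
    (fstPull x (dual k k) U z) (by rw [h]; exact zero_mem _)
  rw [sup_bot_eq, ← (rho_spec x (dual k k) U).2, RingHom.mem_ker, rho_fst] at h2
  exact h2

theorem exists_of_hom (φ : ClSub.idealMod I₀ ⟶ ClSub.quotMod I₀) :
    ∃ I : (localHilb X x I₀).obj (dual k k), Spec' x I₀ I φ := by
  let B : Art k k := dual k k
  let p : B ⟶ base k k := toBase B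
  let ε : B := (DualNumber.eps : DualNumber k)
  have hp : Function.Surjective p := ArtFunLib.toBase_surjective B
  have hpε : p ε = 0 := rfl
  have hkt : RingHom.ker p.toAlgHom.toRingHom = Ideal.span {ε} := by
    ext b
    rw [RingHom.mem_ker]
    refine ⟨fun hb => Ideal.mem_span_singleton'.mpr ⟨algebraMap k (DualNumber k) (TrivSqZeroExt.snd b),
      dual_decomp b hb⟩, fun hb => ?_⟩
    obtain ⟨d, rfl⟩ := Ideal.mem_span_singleton'.mp hb
    exact (map_mul p.toAlgHom.toRingHom d _).trans (mul_eq_zero_of_right _ rfl)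
  have hm0 : IsLocalRing.maximalIdeal B * Ideal.span {ε} = ⊥ := by
    refine le_bot_iff.1 (Ideal.mul_le.2 fun a ha b hb => ?_)
    rw [Ideal.mem_bot]
    refine res_sq_dual a b ((mem_maximalIdeal_iff B a).1 ha) ?_
    obtain ⟨d, rfl⟩ := Ideal.mem_span_singleton'.mp hb
    exact (map_mul B.res d _).trans (mul_eq_zero_of_right _ rfl)
  have hε0 : ε ≠ 0 := eps_ne
  let IA : (XA x (base k k)).IdealSheafData := I₀.comap (pullback.fst x (specOver (base k k)))
  have hIA0 : IA.comap (XAincl x (base k k)) = I₀ := by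
    show (I₀.comap _).comap _ = I₀
    rw [← Scheme.IdealSheafData.comap_comp, XAincl_fst, Scheme.IdealSheafData.comap_id]
  have hIA : ∀ U, ((Ideal.Quotient.mk (IA.ideal (W x (base k k) U))).comp (c x (base k k) U)).Flat :=
    fun U => flat_quotient x IA (AssLib.flat_over_field (k := k) (IA.subschemeι ≫ XApr x (base k k))) U
  have h0A : ∀ U, (IA.ideal (W x (base k k) U)).map (rho x (base k k) U) = I₀.ideal U := fun U => by
    rw [← comap_incl_ideal, hIA0]
  haveI := isClosedImmersion_map x p hp
  obtain ⟨P, hP⟩ : ∃ P : (XA x B).IdealSheafData,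
      ∀ U, P.ideal (W x B U) = (IA.ideal (W x (base k k) U)).comap (pi x p U) :=
    ⟨IA.map (XAmap x p), fun U => Ideal.ext fun a =>
      mem_map_iff (XAmap x p) IA (W x B U) (W x (base k k) U) (pi_le x p U) (pi_le x p U).le a⟩
  have h0 : ∀ U, (P.ideal (W x B U)).map (rho x B U) = I₀.ideal U := fun U => by
    rw [hP, show rho x B U = (rho x (base k k) U).comp (pi x p U) from RingHom.ext fun a => (rho_pi x p U a).symm,
      ← Ideal.map_map, Ideal.map_comap_of_surjective _ (pi_spec x p hp U).1, h0A]
  obtain ⟨φ₀, -, hφ₀⟩ := exists_phi P I₀ h0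
  have hsp : ∀ (U : X.affineOpens) (s : Γ(G P, U.1)),
      ∃ z, IsSplit x U (el P U s) (rho x B U (el P U s)) z := fun U s => exists_split x U _
  choose fz hfz using hsp
  let q : ∀ U : X.affineOpens, Γ(X, U.1) →+ Γ(ClSub.quotMod I₀, U.1) := fun U =>
    AddMonoidHom.mk' (fun z => (I₀.subschemeι.app U.1 z : Γ(ClSub.quotMod I₀, U.1))) fun a b =>
      map_add (I₀.subschemeι.app U.1).hom a b
  let f : ∀ U : X.affineOpens, Γ(G P, U.1) → Γ(ClSub.quotMod I₀, U.1) := fun U s =>
    q U (fz U s) - φ.app U.1 (φ₀.app U.1 s)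
  have hzu : ∀ U s z, IsSplit x U (el P U s) (rho x B U (el P U s)) z → fz U s = z := fun U s z hz => by
    have h1 : IsSplit x U (el P U s) (rho x B U (el P U s)) (fz U s) := hfz U s
    refine sub_eq_zero.1 (eps_mul_fst_eq_zero x U _ ?_)
    rw [map_sub, mul_sub, sub_eq_zero]
    exact add_left_cancel (h1.symm.trans hz)
  have hval : ∀ U s z, IsSplit x U (el P U s) (rho x B U (el P U s)) z →
      f U s = q U z - φ.app U.1 (φ₀.app U.1 s) := fun U s z hz => by
    show q U (fz U s) - _ = _
    rw [hzu U s z hz]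
  have hadd : ∀ U s s', f U (s + s') = f U s + f U s' := fun U s s' => by
    rw [hval U (s + s') (fz U s + fz U s') (by
      have h1 : el P U s = _ := hfz U s
      have h2 : el P U s' = _ := hfz U s'
      show _ = _
      conv_lhs => rw [map_add, h1, h2]
      rw [map_add, map_add, map_add, map_add]; ring)]
    show _ = (q U (fz U s) - _) + (q U (fz U s') - _)
    rw [map_add, map_add, map_add]
    abel
  obtain ⟨θ, hθ⟩ := FamilyHom.exists_hom_of_family (fun U => AddMonoidHom.mk' (f U) (hadd U))
    (fun U V hV s => by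
      have h1 : el P U s = _ := hfz U s
      have hfst : ∀ r, (XA x B).presheaf.map (homOfLE (W_mono x B hV)).op
          (fstPull x B U r) = fstPull x B V (X.presheaf.map (homOfLE hV).op r) := fun r =>
        (congr($((pullback.fst x (specOver B)).naturality (homOfLE hV).op) r)).symm
      show (ClSub.quotMod I₀).presheaf.map (homOfLE hV).op (f U s) = f V ((G P).presheaf.map (homOfLE hV).op s)
      rw [hval V ((G P).presheaf.map (homOfLE hV).op s) (X.presheaf.map (homOfLE hV).op (fz U s)) (by
        show _ = _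
        rw [el_map P U V hV, rho_map x B hV]
        conv_lhs => rw [h1]
        rw [map_add, map_mul, c_map x B hV, hfst, hfst]), app_map, app_map]
      refine (map_sub _ _ _).trans ?_
      congr 1
      exact (congr($(I₀.subschemeι.naturality (homOfLE hV).op) (fz U s))).symm)
    (fun U r s => by
      have h1 : el P U s = _ := hfz U s
      show f U (r • s) = r • f U s
      rw [hval U (r • s) (r * fz U s) (by
        show _ = _
        rw [el_smul, map_mul (rho x B U), rho_fst]
        conv_lhs => rw [h1]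
        rw [map_mul, map_mul]; ring), Scheme.Modules.Hom.app_smul, Scheme.Modules.Hom.app_smul]
      show _ = r • (_ - _)
      rw [smul_sub]
      congr 1
      exact map_mul (I₀.subschemeι.app U.1).hom _ _)
  have hθ' : ∀ U s z, IsSplit x U (el P U s) (rho x B U (el P U s)) z →
      θ.app U.1 s = q U z - φ.app U.1 (φ₀.app U.1 s) := fun U s z hz =>
    (hθ U s).trans (hval U s z hz)
  have hcz : ∀ U z, ∃ s, el P U s = c x B U ε * z ∧ θ.app U.1 s = I₀.subschemeι.app U.1 (rho x B U z) :=
    fun U z => by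
    obtain ⟨s, hs⟩ := exists_el P U (c x B U ε * z) (by
      rw [hP, Ideal.mem_comap, map_mul, pi_c, hpε, map_zero, zero_mul]; exact zero_mem _)
    have hr : rho x B U (el P U s) = 0 := by
      rw [hs, map_mul, rho_c, show B.res ε = 0 from rfl, map_zero, zero_mul]
    have hs0 : φ₀.app U.1 s = 0 := OmegaLib.idealSect_injective I₀ U.1 (by rw [hφ₀, hr, map_zero])
    refine ⟨s, hs, ?_⟩
    rw [hθ' U s (rho x B U z) (by
      show _ = _
      rw [hr, hs, map_zero, zero_add, ← c_mul x B res_sq_dual U ε rfl]), hs0, map_zero, sub_zero]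
    rfl
  have hlin : ∀ (U : X.affineOpens) s (R : Γ(XA x B, (W x B U).1)) s', el P U s' = R * el P U s →
      θ.app U.1 s' = rho x B U R • θ.app U.1 s := fun U s R s' he => by
    obtain ⟨w, hw⟩ := exists_split x U R
    have hw' : R = _ := hw
    have hb : el P U s = _ := hfz U s
    have hI : q U (rho x B U (el P U s)) = 0 := by
      show I₀.subschemeι.app U.1 (rho x B U (el P U s)) = 0
      rw [← RingHom.mem_ker, I₀.ker_subschemeι_app, ← h0 U]
      exact Ideal.mem_map_of_mem _ (el_mem P U s)
    have hεε : c x B U ε * c x B U ε = 0 := by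
      rw [← map_mul, res_sq_dual ε ε rfl rfl, map_zero]
    have hφs : φ₀.app U.1 s' = rho x B U R • φ₀.app U.1 s := OmegaLib.idealSect_injective I₀ U.1 (by
      rw [OmegaLib.idealSect_smul, hφ₀, hφ₀, he, map_mul])
    have hq : ∀ r z : Γ(X, U.1), q U (r * z) = r • q U z := fun r z =>
      map_mul (I₀.subschemeι.app U.1).hom r z
    rw [hθ' U s' (rho x B U R * fz U s + w * rho x B U (el P U s)) (by
        show _ = _
        rw [he, map_mul (rho x B U)]
        conv_lhs => rw [hw', hb]
        simp only [map_mul, map_add]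
        linear_combination (fstPull x B U w * fstPull x B U (fz U s)) * hεε),
      hθ' U s (fz U s) (hfz U s), hφs, Scheme.Modules.Hom.app_smul, smul_sub, map_add, hq, hq, hI,
      smul_zero, add_zero]
  obtain ⟨I, hI⟩ := exists_ideal P I₀ θ hlin
  have hmapA : ∀ U, (I.ideal (W x B U)).map (pi x p U) = IA.ideal (W x (base k k) U) := fun U => by
    refine le_antisymm (Ideal.map_le_iff_le_comap.2 fun a ha => ?_) fun α hα => ?_
    · obtain ⟨s, rfl, -⟩ := (hI U a).1 ha
      exact hP U ▸ el_mem P U s
    · obtain ⟨a, rfl⟩ := (pi_spec x p hp U).1 α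
      obtain ⟨s, hs⟩ := exists_el P U a (by rw [hP]; exact hα)
      obtain ⟨w, hw⟩ := I₀.subschemeι_app_surjective U (θ.app U.1 s)
      obtain ⟨z, hz⟩ := (rho_spec x B U).1 w
      obtain ⟨s', hs', hs'θ⟩ := hcz U z
      have hmem : a - c x B U ε * z ∈ I.ideal (W x B U) :=
        (hI U _).2 ⟨s - s', by rw [map_sub, hs, hs'], by rw [map_sub, hs'θ, hz, hw]; exact sub_self _⟩
      have h5 := Ideal.mem_map_of_mem (pi x p U) hmem
      rwa [map_sub, map_mul, pi_c, hpε, map_zero, zero_mul, sub_zero] at h5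
  have hcomap : I.comap (XAmap x p) = IA := HilbAffine.ext_ideal x fun U => by
    rw [comap_map_ideal, hmapA]
  refine ⟨⟨I, ?_, ?_⟩, fun U s a z ha hz => ?_⟩
  · refine flat_of_ideals I fun U => ?_
    refine HilbObsRing.flat_of_lift (sit x p hp ε hkt hε0 hm0 U) (hIA U) (rho_spec x B U).1
      (I.ideal (W x B U)) (hmapA U) fun z hz => ?_
    obtain ⟨s, hs, hs0⟩ := (hI U _).1 hz
    obtain ⟨s', hs', hs'θ⟩ := hcz U z
    obtain rfl : s = s' := el_injective P U (hs.trans hs'.symm)
    show rho x B U z ∈ (IA.ideal (W x (base k k) U)).map (rho x (base k k) U)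
    rw [h0A, ← I₀.ker_subschemeι_app, RingHom.mem_ker]
    exact hs'θ.symm.trans hs0
  · rw [← XAincl_XAmap x p, Scheme.IdealSheafData.comap_comp, hcomap, hIA0]
  · obtain ⟨s', hs', hs'0⟩ := (hI U a).1 ha
    have hr : rho x B U a = OmegaSh.idealSect I₀ U.1 s := by
      have hz' : a = _ := hz
      rw [hz', map_add, map_mul, rho_fst, rho_c, show B.res ε = 0 from rfl, map_zero, zero_mul, add_zero]
    have hz2 : IsSplit x U (el P U s') (rho x B U (el P U s')) z := by rw [hs', hr]; exact hz
    have hs : φ₀.app U.1 s' = s := OmegaLib.idealSect_injective I₀ U.1 (by rw [hφ₀, hs', hr])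
    rw [hθ' U s' z hz2, hs, sub_eq_zero] at hs'0
    exact hs'0.symm

end Groth.Agent.HilbPt76
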