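import Groth.Agent.HilbPt76.LocalPoint
import Groth.Agent.HilbPt76.CotTangent
import Groth.Agent.HilbPt76.TangentSurj
import Groth.Agent.HilbPt76.Bridge
import Groth.Agent.ArtFunLib.HilbFib

/-! The tangent space of the Hilbert scheme at a point is `Hom(I, O_X)`. -/

set_option autoImplicit false
set_option linter.style.haveILetI false
set_option backward.isDefEq.respectTransparency false

universe u

open CategoryTheory CategoryTheory.Limits AlgebraicGeometry ArtFun ArtFun.Art

namespace Groth.Agent.HilbPt76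

open Groth.Agent.ArtFunLib Groth.Agent.HilbFin76

variable {k : Type u} [Field k] {Y : Scheme.{u}} [Y.Over (specPt k)]

theorem finrank_cotangent_of_natural {O : Type u} [CommRing O] [IsLocalRing O] [Algebra k O] (res : O →ₐ[k] k)
    (I₀ : Y.IdealSheafData) (η : ∀ A : Art k k, HomSet O res A ≃ (localHilb Y (Y ↘ specPt k) I₀).obj A)
    (hη : ∀ (A B : Art k k) (φ : A ⟶ B) (v : HomSet O res A),
      η B (HomSet.map φ v) = (localHilb Y (Y ↘ specPt k) I₀).map φ (η A v)) :
    Module.finrank (IsLocalRing.ResidueField O) (IsLocalRing.CotangentSpace O) =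
      Module.finrank k (ClSub.idealMod I₀ ⟶ ClSub.quotMod I₀) := by
  obtain ⟨T⟩ := nonempty_tangentStr (ArtFunLib.hR_h0 O res) (ArtFunLib.hR_heps O res)
  choose Φ hΦ using exists_spec (Y ↘ specPt k) I₀
  let L : TangentSpace (hR O res) →ₗ[k] (ClSub.idealMod I₀ ⟶ ClSub.quotMod I₀) :=
  { toFun := fun v => Φ (η (dual k k) (TangentSpace.val v))
    map_add' := fun v w => by
      obtain ⟨z, h₁, h₂⟩ := exists_pair (ArtFunLib.hR_h0 O res) (ArtFunLib.hR_heps O res)
        (TangentSpace.val v) (TangentSpace.val w)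
      have hadd : v + w = TangentSpace.mk ((hR O res).map plus z) := by
        rw [← tangent_add_eq, h₁, h₂]; rfl
      rw [hadd, ← h₁, ← h₂]
      refine spec_add _ I₀ (η _ z) ?_ ?_ ?_ <;> rw [← hη] <;> exact hΦ _
    map_smul' := fun a v => by
      have hsm : a • v = TangentSpace.mk ((hR O res).map (scale a) (TangentSpace.val v)) := by
        rw [← tangent_smul_eq]; rfl
      rw [hsm]
      refine spec_smul _ I₀ rfl a _ (hΦ _) ?_
      rw [← hη]
      exact hΦ _ }
  have hL : Function.Bijective L := by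
    refine ⟨fun v w hvw => ?_, fun φ => ?_⟩
    · have h1 : Φ (η _ (TangentSpace.val v)) = Φ (η _ (TangentSpace.val w)) := hvw
      have h2 : η (dual k k) (TangentSpace.val v) = η (dual k k) (TangentSpace.val w) :=
        Subtype.ext (HilbAffine.ext_ideal _ fun U => le_antisymm
          (le_of_spec _ I₀ _ _ (hΦ _) (h1 ▸ hΦ _) U) (le_of_spec _ I₀ _ _ (hΦ _) (h1 ▸ hΦ _) U))
      exact Subtype.ext (congrArg Subtype.val ((η (dual k k)).injective h2))
    · obtain ⟨I, hI⟩ := exists_of_hom (Y ↘ specPt k) I₀ φ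
      refine ⟨TangentSpace.mk (F := hR O res) ((η (dual k k)).symm I), ?_⟩
      show Φ (η (dual k k) ((η (dual k k)).symm I)) = φ
      rw [Equiv.apply_symm_apply]
      refine Scheme.Modules.hom_ext _ _ fun V => ?_
      ext t
      refine FamilyHom.ext_affine _ V _ _ fun U hU => ?_
      refine (HilbMod.app_map (Φ I) hU t).symm.trans (Eq.trans ?_ (HilbMod.app_map φ hU t))
      generalize (ClSub.idealMod I₀).presheaf.map (homOfLE hU).op t = s
      obtain ⟨a, ha, hρ⟩ := exists_rep (Y ↘ specPt k) I₀ I U s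
      obtain ⟨z, hz⟩ := exists_split (Y ↘ specPt k) U a
      rw [hρ] at hz
      rw [hΦ I U s a z ha hz, hI U s a z ha hz]
  rw [← (LinearEquiv.ofBijective L hL).finrank_eq]
  exact (finrank_tangent res).symm

theorem finrank_cotangent [IsProper (Y ↘ specPt k)] (H : Over (specPt k)) (Z : FGA.HilbSet (Y ↘ specPt k) H)
    (hH : FGA.HilbRepresentedBy (Y ↘ specPt k) H Z) (I₀ : Y.IdealSheafData)
    (h : Over.mk (𝟙 (specPt k)) ⟶ H)
    (hh : FGA.hilbPull (Y ↘ specPt k) h Z.1 =
      I₀.comap (pullback.fst (Y ↘ specPt k) (Over.mk (𝟙 (specPt k))).hom))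
    (pt : ↥(Spec (CommRingCat.of k))) :
    Module.finrank (IsLocalRing.ResidueField (H.left.presheaf.stalk (h.left pt)))
        (IsLocalRing.CotangentSpace (H.left.presheaf.stalk (h.left pt))) =
      Module.finrank k (ClSub.idealMod I₀ ⟶ ClSub.quotMod I₀) := by
  have hw : h.left ≫ H.hom = 𝟙 _ := Over.w h
  obtain ⟨iA, res, -, e₁, he₁⟩ := exists_stalk_functor H.left H.hom h.left hw pt
  obtain ⟨e₂, he₂⟩ := exists_hilb_natural (Y ↘ specPt k) H Z hH I₀ h hh
  let O := H.left.presheaf.stalk (h.left pt)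
  let η : ∀ A : Art k k, HomSet O res A ≃ (localHilb Y (Y ↘ specPt k) I₀).obj A := fun A => (e₁ A).trans (e₂ A)
  exact finrank_cotangent_of_natural res I₀ η fun A B φ v => he₂ A B φ (e₁ A v) (e₁ B (HomSet.map φ v)) (he₁ A B φ v)

end Groth.Agent.HilbPt76
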