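import Groth.Agent.HilbPt76.Main
import Groth.Agent.ArtFunLib.ObsBound
import Groth.Agent.PSLib.Regular
import Groth.Agent.CILib.Basic

/-! Regularity of the Hilbert scheme at an unobstructed point. -/

set_option autoImplicit false
set_option linter.style.haveILetI false
set_option backward.isDefEq.respectTransparency false

universe u

open CategoryTheory CategoryTheory.Limits AlgebraicGeometry ArtFun ArtFun.Art

namespace Groth.Agent.HilbPt76

open Groth.Agent.ArtFunLib

variable {k : Type u} [Field k] {Y : Scheme.{u}} [Y.Over (specPt k)]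

/-- The completed local ring prorepresents the local Hilbert functor. -/
theorem exists_completed (H : Over (specPt k)) [IsProper (Y ↘ specPt k)] (Z : FGA.HilbSet (Y ↘ specPt k) H)
    (hH : FGA.HilbRepresentedBy (Y ↘ specPt k) H Z) (I₀ : Y.IdealSheafData)
    (h : Over.mk (𝟙 (specPt k)) ⟶ H)
    (hh : FGA.hilbPull (Y ↘ specPt k) h Z.1 =
      I₀.comap (pullback.fst (Y ↘ specPt k) (Over.mk (𝟙 (specPt k))).hom))
    (pt : ↥(Spec (CommRingCat.of k))) :
    ∃ (R : CRing k k) (_ : R.carrier ≃+*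
        AdicCompletion (IsLocalRing.maximalIdeal (H.left.presheaf.stalk (h.left pt))) (H.left.presheaf.stalk (h.left pt)))
      (η : ∀ A : Art k k, HomSet R.carrier R.res A ≃ (localHilb Y (Y ↘ specPt k) I₀).obj A),
      ∀ (A B : Art k k) (φ : A ⟶ B) (v : HomSet R.carrier R.res A),
        η B (HomSet.map φ v) = (localHilb Y (Y ↘ specPt k) I₀).map φ (η A v) := by
  haveI : IsLocallyNoetherian H.left := hH.1
  have hw : h.left ≫ H.hom = 𝟙 _ := Over.w h
  obtain ⟨R, eR, e₁, he₁⟩ := exists_local_functor H.left H.hom h.left hw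
  obtain ⟨e₂, he₂⟩ := exists_hilb_natural (Y ↘ specPt k) H Z hH I₀ h hh
  obtain ⟨eR⟩ := eR pt
  exact ⟨R, eR, fun A => (e₁ A).trans (e₂ A),
    fun A B φ v => he₂ A B φ (e₁ A v) (e₁ B (HomSet.map φ v)) (he₁ A B φ v)⟩

/-- An unobstructed point is a regular point, of dimension `dim Hom(I, O)`. -/
theorem regular_of_smooth (H : Over (specPt k)) [IsProper (Y ↘ specPt k)] (Z : FGA.HilbSet (Y ↘ specPt k) H)
    (hH : FGA.HilbRepresentedBy (Y ↘ specPt k) H Z) (I₀ : Y.IdealSheafData)
    (h : Over.mk (𝟙 (specPt k)) ⟶ H)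
    (hh : FGA.hilbPull (Y ↘ specPt k) h Z.1 =
      I₀.comap (pullback.fst (Y ↘ specPt k) (Over.mk (𝟙 (specPt k))).hom))
    (pt : ↥(Spec (CommRingCat.of k))) (hs : IsSmoothFunctor (localHilb Y (Y ↘ specPt k) I₀)) :
    IsRegularLocalRing (H.left.presheaf.stalk (h.left pt)) ∧
      ringKrullDim (H.left.presheaf.stalk (h.left pt)) =
        (Module.finrank k (ClSub.idealMod I₀ ⟶ ClSub.quotMod I₀) : WithBot ℕ∞) := by
  haveI : IsLocallyNoetherian H.left := hH.1
  obtain ⟨R, eR, η, hη⟩ := exists_completed H Z hH I₀ h hh pt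
  let T : ObsTheory (hR R.carrier R.res) PUnit.{u+1} :=
    { obs := fun _ _ _ => 0
      obs_eq_zero_iff := fun {C' C} p hp v => by
        refine ⟨fun _ => ?_, fun _ => rfl⟩
        obtain ⟨w, hw⟩ := hs p hp.1 (η C v)
        refine ⟨(η C').symm w, (η C).injective ?_⟩
        show η C (HomSet.map p _) = η C v
        rw [hη, Equiv.apply_symm_apply, hw]
      obs_quot := fun _ _ _ _ _ _ _ => by simp }
  obtain ⟨n, π, hπ, hJ⟩ := ObsHR.exists_minimal_presentation R
  haveI := Groth.Agent.PSLib.isRegularLocalRing k n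
  obtain ⟨hle, hge, -⟩ := ObsBound.bounds R.res π hπ hJ T
  have hcot : Module.finrank (IsLocalRing.ResidueField R.carrier) (IsLocalRing.CotangentSpace R.carrier) =
      Module.finrank k (ClSub.idealMod I₀ ⟶ ClSub.quotMod I₀) :=
    finrank_cotangent_of_natural R.res I₀ η hη
  rw [Module.finrank_zero_of_subsingleton (R := k) (M := PUnit.{u+1}), Nat.cast_zero, add_zero] at hge
  have hdim : ringKrullDim (H.left.presheaf.stalk (h.left pt)) =
      (Module.finrank k (ClSub.idealMod I₀ ⟶ ClSub.quotMod I₀) : WithBot ℕ∞) := by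
    rw [← CILib.ringKrullDim_adicCompletion (H.left.presheaf.stalk (h.left pt)),
      ← ringKrullDim_eq_of_ringEquiv eR, le_antisymm hle hge, hcot]
  refine ⟨?_, hdim⟩
  rw [IsRegularLocalRing.iff_finrank_cotangentSpace, hdim, finrank_cotangent H Z hH I₀ h hh pt]

end Groth.Agent.HilbPt76
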